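import Mathlib
import Cfsg.Prelude.Def_Solvable
import Cfsg.Agent.Fusion.FixedPointFree

/-!
A criterion for the p'-core of the centralizer of an outer automorphism of order p of a group with trivial centre.
-/

set_option autoImplicit false

namespace Cfsg.Agent.LocalBalance

variable {K : Type*} [Group K]

/-- The inner automorphisms. -/
abbrev innR (K : Type*) [Group K] : Subgroup (MulAut K) := (MulAut.conj : K →* MulAut K).range

theorem innR_normal : (innR K).Normal := ⟨by
  rintro _ ⟨k, rfl⟩ a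
  exact ⟨a k, MulEquiv.ext fun t => by simp [MulAut.conj_apply, MulAut.mul_apply]⟩⟩

/-- A subgroup of fixed inner automorphisms witnessing that the p'-core vanishes. -/
structure Witness (p : ℕ) (x : MulAut K) : Prop where
  exists_sub : ∃ X : Subgroup (MulAut K), X ≤ innR K ∧ X ≤ Subgroup.centralizer {x} ∧
    (∀ y ∈ innR K, y * x = x * y → ∀ z ∈ X, y * z * y⁻¹ ∈ X) ∧
    (∀ y, y * x = x * y → (∀ z ∈ X, y * z = z * y) → y ∈ Subgroup.zpowers x) ∧
    ∀ M : Subgroup (MulAut K), M ≤ X → (∀ z ∈ X, ∀ w ∈ M, z * w * z⁻¹ ∈ M) → (Nat.card M).Coprime p → M = ⊥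

theorem Witness.conj {p : ℕ} {x : MulAut K} (h : Witness p x) (a : MulAut K) : Witness p (a * x * a⁻¹) := by
  obtain ⟨X, hI, hC, hN, hF, hS⟩ := h.exists_sub
  let c : MulAut K →* MulAut K := (MulAut.conj a).toMonoidHom
  have hc : ∀ t, c t = a * t * a⁻¹ := fun t => rfl
  have back : ∀ y, y * (a * x * a⁻¹) = a * x * a⁻¹ * y → a⁻¹ * y * a * x = x * (a⁻¹ * y * a) := fun y hy => by
    calc a⁻¹ * y * a * x = a⁻¹ * (y * (a * x * a⁻¹)) * a := by group
      _ = x * (a⁻¹ * y * a) := by rw [hy]; group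
  refine ⟨X.map c, ?_, ?_, ?_, ?_, ?_⟩
  · rintro _ ⟨z, hz, rfl⟩
    exact innR_normal.conj_mem z (hI hz) a
  · rintro _ ⟨z, hz, rfl⟩
    rw [Subgroup.mem_centralizer_singleton_iff, hc]
    have := Subgroup.mem_centralizer_singleton_iff.1 (hC hz)
    calc a * z * a⁻¹ * (a * x * a⁻¹) = a * (z * x) * a⁻¹ := by group
      _ = a * x * a⁻¹ * (a * z * a⁻¹) := by rw [this]; group
  · rintro y hy hyx _ ⟨z, hz, rfl⟩
    refine ⟨a⁻¹ * y * a * z * (a⁻¹ * y * a)⁻¹, hN _ ?_ (back y hyx) z hz, by rw [hc, hc]; group⟩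
    have := innR_normal.conj_mem y hy a⁻¹
    rwa [inv_inv] at this
  · intro y hyx hyX
    obtain ⟨k, hk⟩ := hF _ (back y hyx) fun z hz => by
      have := hyX _ ⟨z, hz, rfl⟩
      rw [hc] at this
      calc a⁻¹ * y * a * z = a⁻¹ * (y * (a * z * a⁻¹)) * a := by group
        _ = z * (a⁻¹ * y * a) := by rw [this]; group
    refine ⟨k, ?_⟩
    show (a * x * a⁻¹) ^ k = y
    rw [conj_zpow, show x ^ k = a⁻¹ * y * a from hk]
    group
  · intro M hMX hMn hMc
    have hback : M.comap c = ⊥ := by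
      refine hS _ (fun z hz => ?_) (fun z hz w hw => ?_) ?_
      · obtain ⟨z', hz', he⟩ := hMX hz
        rwa [← (MulAut.conj a).injective he]
      · show c (z * w * z⁻¹) ∈ M
        rw [map_mul, map_mul, map_inv]
        exact hMn _ ⟨z, hz, rfl⟩ _ hw
      · refine hMc.of_dvd_left (Subgroup.card_comap_dvd_of_injective M c (MulAut.conj a).injective)
    refine (Subgroup.eq_bot_iff_forall M).2 fun w hw => ?_
    have hm : a⁻¹ * w * a ∈ M.comap c := by
      show c _ ∈ M
      rw [hc]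
      convert hw using 1
      group
    rw [hback, Subgroup.mem_bot] at hm
    calc w = a * (a⁻¹ * w * a) * a⁻¹ := by group
      _ = 1 := by rw [hm]; group

/-- A normal subgroup of p'-order in a simple group with order divisible by p is trivial. -/
theorem bot_of_simple_range {p : ℕ} (hp : p.Prime) {S : Type*} [Group S] [Finite S] [IsSimpleGroup S]
    (ψ : S →* MulAut K) (hψ : Function.Injective ψ) (hdvd : p ∣ Nat.card S) {M : Subgroup (MulAut K)}
    (hM : M ≤ ψ.range) (hMn : ∀ z ∈ ψ.range, ∀ w ∈ M, z * w * z⁻¹ ∈ M) (hMc : (Nat.card M).Coprime p) : M = ⊥ := by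
  have hn : (M.comap ψ).Normal := ⟨fun w hw s => by
    show ψ (s * w * s⁻¹) ∈ M
    rw [map_mul, map_mul, map_inv]
    exact hMn _ ⟨s, rfl⟩ _ hw⟩
  rcases hn.eq_bot_or_eq_top with h | h
  · refine (Subgroup.eq_bot_iff_forall M).2 fun w hw => ?_
    obtain ⟨s, rfl⟩ := hM hw
    have : s ∈ M.comap ψ := hw
    rw [h, Subgroup.mem_bot] at this
    rw [this, map_one]
  · have h1 : ψ.range ≤ M := by
      rintro _ ⟨s, rfl⟩
      have : s ∈ M.comap ψ := h ▸ Subgroup.mem_top s
      exact this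
    exfalso
    refine hp.coprime_iff_not_dvd.1 hMc.symm ?_
    rw [le_antisymm hM h1, ← Nat.card_congr (MonoidHom.ofInjective hψ).toEquiv]
    exact hdvd

variable [Finite K]

theorem finite_mulAut : Finite (MulAut K) :=
  Finite.of_injective (fun e : MulAut K => (e : K → K)) DFunLike.coe_injective

theorem core_eq_bot {p : ℕ} {x : MulAut K} (hord : orderOf x = p) (h : Witness p x) {A : Subgroup (MulAut K)}
    (hA : innR K ≤ A) : Cfsg.pPrimeCore p ↥(A ⊓ Subgroup.centralizer {x}) = ⊥ := by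
  haveI := finite_mulAut (K := K)
  obtain ⟨X, hI, hC, hN, hF, hS⟩ := h.exists_sub
  set C := A ⊓ Subgroup.centralizer {x} with hCdef
  refine eq_bot_iff.2 (sSup_le ?_)
  rintro N ⟨hNn, hNc⟩
  let N' := N.map C.subtype
  have hcard : Nat.card N' = Nat.card N := Nat.card_congr (N.equivMapOfInjective _ C.subtype_injective).symm.toEquiv
  have hXC : X ≤ C := le_inf (hI.trans hA) hC
  have hconj : ∀ z ∈ C, ∀ w ∈ N', z * w * z⁻¹ ∈ N' := by
    rintro z hz _ ⟨w, hw, rfl⟩
    exact ⟨⟨z, hz⟩ * w * ⟨z, hz⟩⁻¹, hNn.conj_mem w hw _, rfl⟩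
  have hNC : N' ≤ C := Subgroup.map_subtype_le N
  have hNX : N' ⊓ X = ⊥ := hS _ inf_le_right
    (fun z hz w hw => Subgroup.mem_inf.2 ⟨hconj z (hXC hz) w (Subgroup.mem_inf.1 hw).1,
      X.mul_mem (X.mul_mem hz (Subgroup.mem_inf.1 hw).2) (X.inv_mem hz)⟩)
    ((hcard ▸ hNc : (Nat.card N').Coprime p).of_dvd_left (Subgroup.card_dvd_of_le inf_le_left))
  have hone : ∀ y ∈ N', (∀ z ∈ X, y * z = z * y) → y = 1 := fun y hy hz => by
    obtain ⟨hyA, hyx⟩ := Subgroup.mem_inf.1 (hNC hy)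
    have h1 := hF y (Subgroup.mem_centralizer_singleton_iff.1 hyx) hz
    have h2 : orderOf y ∣ p := by
      rw [← Subgroup.orderOf_mk y h1, ← hord, ← Nat.card_zpowers x]
      exact orderOf_dvd_natCard _
    have h3 : orderOf y ∣ Nat.card N' := by
      rw [← Subgroup.orderOf_mk y hy]
      exact orderOf_dvd_natCard _
    exact orderOf_eq_one_iff.1 (Nat.eq_one_of_dvd_coprimes (hcard ▸ hNc) h3 h2)
  have hcomm : ∀ y ∈ N', ∀ z ∈ X, y * z * y⁻¹ * z⁻¹ ∈ N' := fun y hy z hz => by
    rw [show y * z * y⁻¹ * z⁻¹ = y * (z * y⁻¹ * z⁻¹) by group]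
    exact mul_mem hy (hconj z (hXC hz) _ (inv_mem hy))
  have hinn : ∀ y ∈ N', y ∈ innR K → y = 1 := fun y hy hyI => hone y hy fun z hz => by
    have hx := Subgroup.mem_centralizer_singleton_iff.1 (Subgroup.mem_inf.1 (hNC hy)).2
    have h1 : y * z * y⁻¹ * z⁻¹ ∈ N' ⊓ X := Subgroup.mem_inf.2 ⟨hcomm y hy z hz, X.mul_mem (hN y hyI hx z hz) (X.inv_mem hz)⟩
    rw [hNX, Subgroup.mem_bot] at h1
    calc y * z = y * z * y⁻¹ * z⁻¹ * (z * y) := by group
      _ = z * y := by rw [h1, one_mul]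
  intro y hy
  refine Subgroup.mem_bot.2 (Subtype.ext ?_)
  refine hone _ ⟨y, hy, rfl⟩ fun z hz => ?_
  have h1 := hinn _ (hcomm _ ⟨y, hy, rfl⟩ z hz) (mul_mem (innR_normal.conj_mem z (hI hz) _) (inv_mem (hI hz)))
  calc C.subtype y * z = C.subtype y * z * (C.subtype y)⁻¹ * z⁻¹ * (z * C.subtype y) := by group
    _ = z * C.subtype y := by rw [h1, one_mul]

/-- The fixed points of x as inner automorphisms commuting with x. -/
theorem card_fixed (hinj : Function.Injective (MulAut.conj : K →* MulAut K)) (x : MulAut K) :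
    Nat.card ↥(innR K ⊓ Subgroup.centralizer {x}) = Nat.card ↥(MonoidHom.eqLocus x.toMonoidHom (MonoidHom.id K)) := by
  have key : ∀ k : K, MulAut.conj k * x = x * MulAut.conj k ↔ x k = k := fun k => by
    have e : x * MulAut.conj k = MulAut.conj (x k) * x := MulEquiv.ext fun t => by
      simp [MulAut.conj_apply, MulAut.mul_apply]
    rw [e, mul_left_inj, hinj.eq_iff, eq_comm]
  have : innR K ⊓ Subgroup.centralizer {x} =
      (MonoidHom.eqLocus x.toMonoidHom (MonoidHom.id K)).map MulAut.conj := by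
    ext y
    constructor
    · intro hy
      obtain ⟨⟨k, rfl⟩, hc⟩ := Subgroup.mem_inf.1 hy
      exact ⟨k, (key k).1 (Subgroup.mem_centralizer_singleton_iff.1 hc), rfl⟩
    · rintro ⟨k, hk, rfl⟩
      exact Subgroup.mem_inf.2 ⟨⟨k, rfl⟩, Subgroup.mem_centralizer_singleton_iff.2 ((key k).2 hk)⟩
  rw [this]
  exact (Nat.card_congr (Subgroup.equivMapOfInjective _ _ hinj).toEquiv).symm

theorem card_fixed_conj (a x : MulAut K) :
    Nat.card ↥(innR K ⊓ Subgroup.centralizer {a * x * a⁻¹}) = Nat.card ↥(innR K ⊓ Subgroup.centralizer {x}) := by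
  have : innR K ⊓ Subgroup.centralizer {a * x * a⁻¹} =
      (innR K ⊓ Subgroup.centralizer {x}).map (MulAut.conj a).toMonoidHom := by
    ext y
    constructor
    · intro hy
      obtain ⟨hI, hc⟩ := Subgroup.mem_inf.1 hy
      rw [Subgroup.mem_centralizer_singleton_iff] at hc
      refine ⟨a⁻¹ * y * a, Subgroup.mem_inf.2 ⟨?_, ?_⟩, by simp [mul_assoc]⟩
      · have := innR_normal.conj_mem y hI a⁻¹
        rwa [inv_inv] at this
      · rw [Subgroup.mem_centralizer_singleton_iff]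
        calc a⁻¹ * y * a * x = a⁻¹ * (y * (a * x * a⁻¹)) * a := by group
          _ = x * (a⁻¹ * y * a) := by rw [hc]; group
    · rintro ⟨z, hz, rfl⟩
      obtain ⟨hI, hc⟩ := Subgroup.mem_inf.1 hz
      rw [Subgroup.mem_centralizer_singleton_iff] at hc
      refine Subgroup.mem_inf.2 ⟨innR_normal.conj_mem z hI a, Subgroup.mem_centralizer_singleton_iff.2 ?_⟩
      show a * z * a⁻¹ * (a * x * a⁻¹) = a * x * a⁻¹ * (a * z * a⁻¹)
      calc a * z * a⁻¹ * (a * x * a⁻¹) = a * (z * x) * a⁻¹ := by group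
        _ = a * x * a⁻¹ * (a * z * a⁻¹) := by rw [hc]; group
  rw [this]
  exact (Nat.card_congr (Subgroup.equivMapOfInjective _ _ (MulAut.conj a).injective).toEquiv).symm

theorem core_ne_bot (hinj : Function.Injective (MulAut.conj : K →* MulAut K)) (hnil : ¬ Group.IsNilpotent K)
    {p : ℕ} (hp : p.Prime) {x : MulAut K} (hord : orderOf x = p) {A : Subgroup (MulAut K)} (hA : innR K ≤ A)
    (hcop : (Nat.card ↥(innR K ⊓ Subgroup.centralizer {x})).Coprime p) :
    Cfsg.pPrimeCore p ↥(A ⊓ Subgroup.centralizer {x}) ≠ ⊥ := by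
  haveI := finite_mulAut (K := K)
  haveI := innR_normal (K := K)
  set C := A ⊓ Subgroup.centralizer {x}
  set J := innR K ⊓ Subgroup.centralizer {x}
  have hJC : J ≤ C := inf_le_inf_right _ hA
  have hn : (J.subgroupOf C).Normal := ⟨fun w hw z => Subgroup.mem_inf.2
    ⟨innR_normal.conj_mem _ (Subgroup.mem_inf.1 hw).1 _,
      mul_mem (mul_mem z.2.2 (Subgroup.mem_inf.1 hw).2) (inv_mem z.2.2)⟩⟩
  intro hbot
  have hle : J.subgroupOf C ≤ Cfsg.pPrimeCore p ↥C := le_sSup ⟨hn, by
    rwa [Nat.card_congr (Subgroup.subgroupOfEquivOfLe hJC).toEquiv]⟩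
  rw [hbot, le_bot_iff, Subgroup.subgroupOf_eq_bot] at hle
  have hJ : J = ⊥ := (hle.eq_bot_of_le hJC)
  have h := Fusion.isNilpotent_of_fpf_prime hp (L := innR K) (c := x) (hord ▸ pow_orderOf_eq_one x)
    (by rw [Subgroup.normalizer_eq_top]; trivial) hJ
  exact hnil (Group.nilpotent_of_mulEquiv (MonoidHom.ofInjective hinj).symm)

/-- An automorphism fixing the fixed field of another is a power of it. -/
theorem mem_zpowers_of_fix {F : Type*} [Field F] [Finite F] {σ τ : F ≃+* F} (h : ∀ a, σ a = a → τ a = a) :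
    τ ∈ Subgroup.zpowers σ := by
  haveI : Finite (F ≃+* F) := Finite.of_injective (fun σ : F ≃+* F => (σ : F → F)) DFunLike.coe_injective
  let G := Subgroup.zpowers σ
  haveI : FaithfulSMul G F := ⟨fun {a b} hab => Subtype.ext (RingEquiv.ext hab)⟩
  let f : F →ₐ[FixedPoints.subfield G F] F :=
    { (τ : F →+* F) with
      commutes' := fun a => h (a : F) (a.2 ⟨σ, Subgroup.mem_zpowers σ⟩) }
  obtain ⟨g, hg⟩ := (FixedPoints.toAlgHom_bijective G F).surjective f
  have : (g : F ≃+* F) = τ := RingEquiv.ext fun a => DFunLike.congr_fun hg a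
  exact this ▸ g.2

end Cfsg.Agent.LocalBalance

namespace Cfsg.Agent.LocalBalance

/-- A non-abelian simple group is not nilpotent and has an injective conjugation map. -/
theorem conj_injective_of_simple {K : Type*} [Group K] [IsSimpleGroup K] {a b : K} (h : a * b ≠ b * a) :
    Function.Injective (MulAut.conj : K →* MulAut K) ∧ ¬ Group.IsNilpotent K := by
  have hc : Subgroup.center K = ⊥ := ((inferInstance : (Subgroup.center K).Normal)).eq_bot_or_eq_top.resolve_right
    fun ht => h ((Subgroup.mem_center_iff.1 (ht ▸ Subgroup.mem_top b) a))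
  refine ⟨(injective_iff_map_eq_one _).2 fun k hk => ?_, fun hn => ?_⟩
  · have : k ∈ Subgroup.center K := Subgroup.mem_center_iff.2 fun t => by
      have := MulEquiv.congr_fun hk t
      rw [MulAut.conj_apply, MulAut.one_apply, mul_inv_eq_iff_eq_mul] at this
      exact this.symm
    rwa [hc, Subgroup.mem_bot] at this
  · haveI : Nontrivial K := inferInstance
    haveI := hn
    exact Group.IsNilpotent.center_ne_bot (G := K) hc

theorem core_ne_bot_iff_coprime {K : Type*} [Group K] [Finite K]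
    (hinj : Function.Injective (MulAut.conj : K →* MulAut K)) (hnil : ¬ Group.IsNilpotent K)
    {p : ℕ} (hp : p.Prime) {x : MulAut K} (hord : orderOf x = p) {A : Subgroup (MulAut K)} (hA : innR K ≤ A)
    (hw : p ∣ Nat.card ↥(innR K ⊓ Subgroup.centralizer {x}) → Witness p x) :
    Cfsg.pPrimeCore p ↥(A ⊓ Subgroup.centralizer {x}) ≠ ⊥ ↔
      p.Coprime (Nat.card ↥(MonoidHom.eqLocus x.toMonoidHom (MonoidHom.id K))) := by
  rw [← card_fixed hinj, hp.coprime_iff_not_dvd]
  exact ⟨fun h hd => h (core_eq_bot hord (hw hd) hA),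
    fun h => core_ne_bot hinj hnil hp hord hA (hp.coprime_iff_not_dvd.2 h).symm⟩

end Cfsg.Agent.LocalBalance
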