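import Cfsg.Agent.LocalBalance.Core
import Cfsg.Agent.Core.PCore

/-!
Witnesses from homomorphisms of groups with simple quotient; the largest normal p'-subgroup is kept by everything
normalising.
-/

set_option autoImplicit false

namespace Cfsg.Agent.LocalBalance

variable {K : Type*} [Group K] [Finite K]

/-- A p'-subgroup normalised by X lies in one that is kept by the whole normaliser of X. -/
theorem exists_core_closure {p : ℕ} {X M : Subgroup (MulAut K)} (hM : M ≤ X)
    (hn : ∀ z ∈ X, ∀ w ∈ M, z * w * z⁻¹ ∈ M) (hc : (Nat.card M).Coprime p) :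
    ∃ N : Subgroup (MulAut K), M ≤ N ∧ N ≤ X ∧ (Nat.card N).Coprime p ∧
      ∀ y : MulAut K, (∀ z ∈ X, y * z * y⁻¹ ∈ X) → ∀ w ∈ N, y * w * y⁻¹ ∈ N := by
  haveI := finite_mulAut (K := K)
  refine ⟨(Cfsg.pPrimeCore p X).map X.subtype, fun w hw => ?_, Subgroup.map_subtype_le _, ?_, fun y hy w hw => ?_⟩
  · haveI : (M.subgroupOf X).Normal := ⟨fun w hw z => hn z.1 z.2 w.1 hw⟩
    exact ⟨⟨w, hM hw⟩, Core.le_pPrimeCore (N := M.subgroupOf X)
      (by rwa [Nat.card_congr (Subgroup.subgroupOfEquivOfLe hM).toEquiv]) hw, rfl⟩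
  · rw [Subgroup.card_map_of_injective X.subtype_injective]
    exact Core.coprime_card_pPrimeCore
  · obtain ⟨w, hw, rfl⟩ := hw
    let f : X →* X := ((MulAut.conj y).toMonoidHom.comp X.subtype).codRestrict X fun z => hy z.1 z.2
    have hinj : Function.Injective f := fun a b hab =>
      Subtype.ext ((MulAut.conj y).injective (congrArg Subtype.val hab))
    let e : X ≃* X := MulEquiv.ofBijective f (Finite.injective_iff_bijective.1 hinj)
    exact ⟨e w, Core.map_pPrimeCore_le e ⟨w, hw, rfl⟩, rfl⟩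

/-- The witness given by the image of a group whose quotient by the kernel has trivial p'-core. -/
theorem witness_of_hom {G : Type*} [Group G] [Finite G] {p : ℕ} {x : MulAut K} (φ : G →* MulAut K)
    {N : Subgroup G} [N.Normal] (hker : φ.ker = N)
    (hcore : ∀ M : Subgroup (G ⧸ N), M.Normal → (Nat.card M).Coprime p → M = ⊥)
    (hinn : ∀ g, φ g ∈ innR K) (hcent : ∀ g, φ g * x = x * φ g)
    (hnorm : ∀ y ∈ innR K, y * x = x * y → ∀ g, y * φ g * y⁻¹ ∈ φ.range)
    (hfix : ∀ y, y * x = x * y → (∀ g, y * φ g = φ g * y) → y ∈ Subgroup.zpowers x) : Witness p x := by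
  let ψ : G ⧸ N →* MulAut K := QuotientGroup.lift N φ hker.ge
  have hψ : Function.Injective ψ := (injective_iff_map_eq_one _).2 fun z hz => by
    obtain ⟨g, rfl⟩ := QuotientGroup.mk_surjective z
    exact (QuotientGroup.eq_one_iff g).2 (hker ▸ hz)
  have hr : ψ.range = φ.range := by
    ext z
    exact ⟨fun ⟨u, hu⟩ => by obtain ⟨g, rfl⟩ := QuotientGroup.mk_surjective u; exact ⟨g, hu⟩,
      fun ⟨g, hg⟩ => ⟨g, hg⟩⟩
  refine ⟨φ.range, ?_, ?_, ?_, fun y hy h => hfix y hy fun g => h _ ⟨g, rfl⟩, fun M hM hn hc => ?_⟩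
  · rintro _ ⟨g, rfl⟩; exact hinn g
  · rintro _ ⟨g, rfl⟩; exact Subgroup.mem_centralizer_singleton_iff.2 (hcent g)
  · rintro y hy hyx _ ⟨g, rfl⟩; exact hnorm y hy hyx g
  · rw [← hr] at hM hn
    have hb := hcore (M.comap ψ) ⟨fun w hw z => by
        show ψ (z * w * z⁻¹) ∈ M
        rw [map_mul, map_mul, map_inv]
        exact hn _ ⟨z, rfl⟩ _ hw⟩ (hc.of_dvd_left (Subgroup.card_comap_dvd_of_injective M ψ hψ))
    refine (Subgroup.eq_bot_iff_forall M).2 fun w hw => ?_
    obtain ⟨z, rfl⟩ := hM hw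
    have : z ∈ M.comap ψ := hw
    rw [hb, Subgroup.mem_bot] at this
    rw [this, map_one]

/-- A simple group of order divisible by p has trivial p'-core. -/
theorem core_of_simple {p : ℕ} (hp : p.Prime) {S : Type*} [Group S] [IsSimpleGroup S] (hdvd : p ∣ Nat.card S)
    (M : Subgroup S) (hM : M.Normal) (hc : (Nat.card M).Coprime p) : M = ⊥ :=
  hM.eq_bot_or_eq_top.resolve_right fun h =>
    hp.coprime_iff_not_dvd.1 hc.symm (by rwa [h, Nat.card_congr Subgroup.topEquiv.toEquiv])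

/-- The witness given by the whole inner centralizer. -/
theorem witness_of_core {p : ℕ} {x : MulAut K}
    (hfix : ∀ y, y * x = x * y → (∀ z ∈ innR K, z * x = x * z → y * z = z * y) → y ∈ Subgroup.zpowers x)
    (hcore : ∀ N : Subgroup (MulAut K), N ≤ innR K ⊓ Subgroup.centralizer {x} → (Nat.card N).Coprime p →
      (∀ y : MulAut K, y * x = x * y → ∀ w ∈ N, y * w * y⁻¹ ∈ N) → N = ⊥) : Witness p x := by
  refine ⟨innR K ⊓ Subgroup.centralizer {x}, inf_le_left, inf_le_right, fun y hy hyx z hz => ?_,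
    fun y hy h => hfix y hy fun z hz hzx => h z (Subgroup.mem_inf.2 ⟨hz, Subgroup.mem_centralizer_singleton_iff.2 hzx⟩),
    fun M hM hn hc => ?_⟩
  · exact Subgroup.mem_inf.2 ⟨innR_normal.conj_mem z (Subgroup.mem_inf.1 hz).1 y, mul_mem
      (mul_mem (Subgroup.mem_centralizer_singleton_iff.2 hyx) (Subgroup.mem_inf.1 hz).2)
      (inv_mem (Subgroup.mem_centralizer_singleton_iff.2 hyx))⟩
  · obtain ⟨N, hMN, hNX, hNc, hNn⟩ := exists_core_closure hM hn hc
    rw [← le_bot_iff, ← hcore N hNX hNc fun y hy => hNn y fun z hz => Subgroup.mem_inf.2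
      ⟨innR_normal.conj_mem z (Subgroup.mem_inf.1 hz).1 y, mul_mem
        (mul_mem (Subgroup.mem_centralizer_singleton_iff.2 hy) (Subgroup.mem_inf.1 hz).2)
        (inv_mem (Subgroup.mem_centralizer_singleton_iff.2 hy))⟩]
    exact hMN

end Cfsg.Agent.LocalBalance
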