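import Cfsg.Agent.Classical.OrthIndex
import Cfsg.Agent.Classical.OrthGen
import Cfsg.Agent.Classical.OrthEichler

/-!
A set of similarities of a quadratic space of dimension at least three in odd characteristic that is stable under
taking commutators with reflections and in which no element but a scalar has a scalar square consists of scalars.
-/

set_option autoImplicit false

namespace Cfsg.Agent.LocalBalance

open Module QuadraticMap Classical.Quad

variable {F V : Type*} [Field F] [AddCommGroup V] [Module F V] [FiniteDimensional F V] [Finite F]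
  {Q : QuadraticForm F V}

omit [FiniteDimensional F V] [Finite F] in
/-- The commutator of a reflection with a similarity is a product of two reflections. -/
theorem refl_comm_sim {g : V ≃ₗ[F] V} {μ : F} (hμ : μ ≠ 0) (hg : ∀ x, Q (g x) = μ * Q x) {u : V} (hu : Q u ≠ 0)
    (hgu : Q (g u) ≠ 0) : refl hu * g * refl hu * g⁻¹ = refl hu * refl hgu := by
  rw [mul_assoc, mul_assoc]
  congr 1
  refine LinearEquiv.ext fun x => ?_
  obtain ⟨y, rfl⟩ := g.surjective x
  show g ((rO hu).1 (g.symm (g y))) = (rO hgu).1 (g y)
  rw [g.symm_apply_apply, rO_apply, rO_apply, map_sub, map_smul]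
  have h : polar Q (g y) (g u) = μ * polar Q y u := by
    simp only [polar, ← map_add, hg]; ring
  rw [h, hg, mul_div_mul_left _ _ hμ]

variable (hQ : (polarBilin Q).Nondegenerate) (h2 : (2 : F) ≠ 0) (hn : 3 ≤ finrank F V)
include hQ hn

omit [Finite F] in
theorem exists_aniso_orth {e : V} : ∃ a, polar Q e a = 0 ∧ Q a ≠ 0 := by
  by_contra hall
  push Not at hall
  have h1 := two_mul_finrank_le hQ (W := LinearMap.ker (polarBilin Q e)) fun w hw => hall w hw
  have h3 := LinearMap.finrank_range_add_finrank_ker (polarBilin Q e)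
  have h4 := Submodule.finrank_le (LinearMap.range (polarBilin Q e))
  rw [Module.finrank_self] at h4
  omega

include h2

omit [Finite F] in
/-- A map keeping all anisotropic lines is a scalar. -/
theorem scalar_of_aniso (g : V →ₗ[F] V) (h : ∀ u, Q u ≠ 0 → ∃ c : F, g u = c • u) :
    ∃ c : F, ∀ x, g x = c • x := by
  have hev : ∀ v, ∃ c : F, g v = c • v := fun e => by
    by_cases he : Q e = 0
    · obtain ⟨a, hea, ha⟩ := exists_aniso_orth hQ hn (e := e)
      obtain ⟨α, hα⟩ := h a ha
      have key : ∀ t : F, t * t = 1 → ∃ c, g e + (t * α) • a = c • e + (c * t) • a := fun t ht => by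
        obtain ⟨c, hc⟩ := h (e + t • a) (by rw [map_add_smul, he, hea, ht]; simpa using ha)
        exact ⟨c, by rw [← smul_smul, ← hα, ← map_smul, ← map_add, hc, smul_add, smul_smul]⟩
      obtain ⟨c, hc⟩ := key 1 (one_mul 1)
      obtain ⟨d, hd⟩ := key (-1) (by ring)
      have h3 : (c - d) • e + ((c + d) - (2 * α)) • a = 0 := by linear_combination (norm := module) hd - hc
      have hee : polar Q e e = 0 := by rw [polar_self', he, mul_zero]
      have h4 := congrArg (fun z => polar Q a z) h3
      simp only [polar_add_right, polar_smul_right, polar_comm Q a e, hea, polar_self', polar_zero_right, smul_eq_mul,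
        mul_zero, zero_add] at h4
      have h5 : c + d = 2 * α := sub_eq_zero.1 ((mul_eq_zero.1 h4).resolve_right (mul_ne_zero h2 ha))
      rw [h5, sub_self, zero_smul, add_zero] at h3
      rcases smul_eq_zero.1 h3 with h6 | h6
      · have hcα : c = α := mul_left_cancel₀ h2 (by linear_combination h5 + h6)
        refine ⟨c, ?_⟩
        linear_combination (norm := module) hc + (congrArg (fun t : F => t • a) hcα)
      · exact ⟨0, by rw [h6, map_zero, smul_zero]⟩
    · exact h e he
  obtain ⟨c, hc⟩ := g.exists_eq_smul_id_of_forall_notLinearIndependent fun v => by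
    obtain ⟨c, hc⟩ := hev v
    by_cases hv : v = 0
    · simp [hv, linearIndependent_fin2]
    · rw [LinearIndependent.pair_iff' hv]
      push Not
      exact ⟨c, hc.symm⟩
  exact ⟨c, fun x => LinearMap.congr_fun hc x⟩

omit hn in
theorem exists_value_pair {u v : V} (hP : polar Q u v ^ 2 ≠ 4 * (Q u * Q v)) {c : F} (hc : c ≠ 0) :
    ∃ α γ : F, Q (α • u + γ • v) = c := by
  let L : (F × F) →ₗ[F] V :=
    (LinearMap.toSpanSingleton F V u).coprod (LinearMap.toSpanSingleton F V v)
  have hpol : ∀ x y : F × F, polar (Q.comp L) x y =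
      2 * Q u * x.1 * y.1 + polar Q u v * (x.1 * y.2 + x.2 * y.1) + 2 * Q v * x.2 * y.2 := fun x y => by
    have e : polar (Q.comp L) x y = polar Q (L x) (L y) := by simp [polar]
    rw [e]
    simp only [L, LinearMap.coprod_apply, LinearMap.toSpanSingleton_apply]
    simp only [polar_add_left, polar_add_right, polar_smul_left, polar_smul_right, smul_eq_mul, polar_self',
      polar_comm Q v u]
    ring
  have hnd : (polarBilin (Q.comp L)).Nondegenerate := nondeg_of fun x hx => by
    have e1 := hx (1, 0)
    have e2 := hx (0, 1)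
    rw [hpol] at e1 e2
    simp only [mul_one, mul_zero, add_zero, zero_add] at e1 e2
    have hd : (4 * (Q u * Q v) - polar Q u v ^ 2) ≠ 0 := sub_ne_zero.2 (Ne.symm hP)
    refine Prod.ext ?_ ?_
    · exact (mul_eq_zero.1 (show (4 * (Q u * Q v) - polar Q u v ^ 2) * x.1 = 0 by
        linear_combination (2 * Q v) * e1 - polar Q u v * e2)).resolve_left hd
    · exact (mul_eq_zero.1 (show (4 * (Q u * Q v) - polar Q u v ^ 2) * x.2 = 0 by
        linear_combination (2 * Q u) * e2 - polar Q u v * e1)).resolve_left hd
  obtain ⟨x, hx⟩ := exists_value hnd h2 (by rw [Module.finrank_prod, Module.finrank_self]) hc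
  exact ⟨x.1, x.2, hx⟩

/-- For a product of two reflections some anisotropic vector is orthogonal to its image. -/
theorem exists_orth_rotation {u v : V} (hu : Q u ≠ 0) (hv : Q v ≠ 0) (hli : ∀ c : F, v ≠ c • u) :
    ∃ z, Q z ≠ 0 ∧ polar Q z ((refl hu * refl hv) z) = 0 := by
  set μ := Q u with hμ
  set ν := Q v with hν
  set β := polar Q u v with hβ
  have hS : ∀ z, polar Q z ((refl hu * refl hv) z) = 2 * Q z - (polar Q z v ^ 2 / ν + polar Q z u ^ 2 / μ) +
      polar Q z v * polar Q z u * β / (μ * ν) := fun z => by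
    show polar Q z ((rO hu).1 ((rO hv).1 z)) = _
    rw [rO_apply, rO_apply]
    simp only [sub_eq_add_neg, ← neg_smul, polar_add_right, polar_add_left, polar_smul_right, polar_smul_left,
      smul_eq_mul, polar_self', polar_comm Q v u, polar_comm Q u z, polar_comm Q v z]
    rw [← hμ, ← hν, ← hβ]
    field_simp
    ring
  by_cases hP : β ^ 2 = 4 * (μ * ν)
  · set d := β • u - (2 * μ) • v with hd
    have hd0 : d ≠ 0 := fun h0 => hli (β / (2 * μ)) (by
      rw [sub_eq_zero] at h0
      rw [div_eq_inv_mul, mul_smul, h0, inv_smul_smul₀ (mul_ne_zero h2 hu)])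
    have hpd : ∀ x, polar Q d x = β * polar Q u x - 2 * μ * polar Q v x := fun x => by
      rw [hd, sub_eq_add_neg, ← neg_smul, polar_add_left, polar_smul_left, polar_smul_left]
      simp [sub_eq_add_neg]
    have hdu : polar Q d u = 0 := by rw [hpd, polar_self', polar_comm Q v u, ← hμ, ← hβ]; ring
    have hdv : polar Q d v = 0 := by rw [hpd, polar_self', ← hν, ← hβ]; linear_combination hP
    have hdd : Q d = 0 := mul_left_cancel₀ h2 (by
      rw [← polar_self', hpd, polar_comm Q u d, polar_comm Q v d, hdu, hdv]; ring)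
    obtain ⟨f, hf, hdf⟩ := exists_hyp_pair hQ hd0 hdd
    set s : F := 1 / (8 * (μ ^ 2 * ν))
    have hs : s ≠ 0 := by
      have h8 : (8 : F) = 2 * 2 * 2 := by norm_num
      simp [s, h8, h2, hu, hv]
    have hQz : Q (f + s • d) = s := by
      rw [map_add_smul, hf, hdd, polar_comm Q f d, hdf]; ring
    refine ⟨f + s • d, by rw [hQz]; exact hs, ?_⟩
    rw [hS, hQz, polar_add_left, polar_add_left, polar_smul_left, polar_smul_left, hdu, hdv, smul_zero, add_zero,
      add_zero]
    have h1 : β * polar Q f u - 2 * μ * polar Q f v = 1 := by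
      rw [← hdf, hpd, polar_comm Q u f, polar_comm Q v f]
    have h8 : (8 : F) ≠ 0 := by
      rw [show (8 : F) = 2 * 2 * 2 by norm_num]; exact mul_ne_zero (mul_ne_zero h2 h2) h2
    have h4 : (4 : F) ≠ 0 := by rw [show (4 : F) = 2 * 2 by norm_num]; exact mul_ne_zero h2 h2
    simp only [s]
    field_simp
    linear_combination -2 * (β * polar Q f u - 2 * μ * polar Q f v + 1) * h1 + 2 * (polar Q f u) ^ 2 * hP
  · set θ := β ^ 2 / (μ * ν) - 2 with hθ
    by_cases hθ0 : θ = 0
    · refine ⟨u, hu, ?_⟩
      rw [hS, polar_self', ← hμ, ← hβ]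
      rw [hθ] at hθ0
      field_simp at hθ0 ⊢
      linear_combination hθ0
    obtain ⟨w, hwu, hwv, hw⟩ : ∃ w, polar Q w u = 0 ∧ polar Q w v = 0 ∧ Q w ≠ 0 := by
      by_contra hall
      push Not at hall
      set Φ := ((polarBilin Q).flip u).prod ((polarBilin Q).flip v)
      have hK : ∀ w, w ∈ LinearMap.ker Φ → w = 0 := fun w hw => by
        simp only [LinearMap.mem_ker, Φ, LinearMap.prod_apply, LinearMap.flip_apply, polarBilin_apply_apply,
          Function.prod_apply, Prod.mk_eq_zero] at hw
        refine eq_zero_of_polar hQ fun x => ?_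
        set D := 4 * (μ * ν) - β ^ 2
        have hD : D ≠ 0 := sub_ne_zero.2 (Ne.symm hP)
        set α := (2 * ν * polar Q x u - β * polar Q x v) / D
        set γ := (2 * μ * polar Q x v - β * polar Q x u) / D
        set k := x - (α • u + γ • v) with hk
        have hku : polar Q k u = 0 := by
          rw [hk, sub_eq_add_neg, polar_add_left, polar_neg_left, polar_add_left, polar_smul_left, polar_smul_left,
            polar_self', polar_comm Q v u, ← hμ, ← hβ]
          simp only [α, γ, smul_eq_mul]; field_simp; simp only [D]; ring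
        have hkv : polar Q k v = 0 := by
          rw [hk, sub_eq_add_neg, polar_add_left, polar_neg_left, polar_add_left, polar_smul_left, polar_smul_left,
            polar_self', ← hν, ← hβ]
          simp only [α, γ, smul_eq_mul]; field_simp; simp only [D]; ring
        have h3 : polar Q w k = 0 := by
          rw [polar, hall (w + k) (by rw [polar_add_left, hw.1, hku, add_zero]) (by rw [polar_add_left, hw.2, hkv, add_zero]),
            hall w hw.1 hw.2, hall k hku hkv]
          simp
        rw [show x = k + (α • u + γ • v) by rw [hk, sub_add_cancel], polar_add_right, h3, polar_add_right,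
          polar_smul_right, polar_smul_right, hw.1, hw.2]
        simp
      have h3 := Φ.finrank_range_add_finrank_ker
      have h4 := Submodule.finrank_le (LinearMap.range Φ)
      rw [Module.finrank_prod, Module.finrank_self] at h4
      rw [show LinearMap.ker Φ = ⊥ from (Submodule.eq_bot_iff _).2 hK, finrank_bot] at h3
      omega
    have hθ2 : θ ≠ 2 := fun h => hP (by
      rw [hθ] at h
      field_simp at h
      linear_combination h)
    obtain ⟨α, γ, hp⟩ := exists_value_pair hQ h2 hP (c := -(2 * Q w) / θ)
      (div_ne_zero (neg_ne_zero.2 (mul_ne_zero h2 hw)) hθ0)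
    refine ⟨α • u + γ • v + w, ?_, ?_⟩
    · rw [map_add', hp, polar_add_left, polar_smul_left, polar_smul_left, polar_comm Q u w, polar_comm Q v w, hwu,
        hwv]
      simp only [smul_zero, add_zero]
      intro h
      field_simp at h
      exact hθ2 (mul_left_cancel₀ hw (by linear_combination h))
    · rw [map_add_smul, Classical.Quad.map_smul', polar_smul_left, smul_eq_mul, ← hμ, ← hν, ← hβ] at hp
      rw [hS, map_add', map_add_smul, Classical.Quad.map_smul']
      simp only [polar_add_left, polar_smul_left, polar_smul_right, smul_eq_mul, polar_self', polar_comm Q v u,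
        polar_comm Q u w, polar_comm Q v w, hwu, hwv]
      rw [← hμ, ← hν, ← hβ]
      have hp' : θ * (α * α * μ + γ * (α * β) + γ * γ * ν) = -(2 * Q w) := by
        rw [hp, mul_div_cancel₀ _ hθ0]
      rw [hθ] at hp'
      field_simp at hp' ⊢
      linear_combination hp'

/-- The criterion. -/
theorem scalar_of_reflect {P : (V ≃ₗ[F] V) → Prop} (hsim : ∀ g, P g → ∃ μ : F, μ ≠ 0 ∧ ∀ x, Q (g x) = μ * Q x)
    (hc : ∀ g, P g → ∀ (u : V) (hu : Q u ≠ 0), P (refl hu * g * refl hu * g⁻¹))
    (hsq : ∀ g, P g → (∃ c : F, ∀ x, g (g x) = c • x) → ∃ c : F, ∀ x, g x = c • x) :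
    ∀ g, P g → ∃ c : F, ∀ x, g x = c • x := by
  have inv : ∀ g, P g → ∀ u, Q u ≠ 0 → polar Q u (g u) ≠ 0 := fun g hg u hu horth => by
    obtain ⟨μ, hμ, hQg⟩ := hsim g hg
    have hgu : Q (g u) ≠ 0 := by rw [hQg]; exact mul_ne_zero hμ hu
    have hP := hc g hg u hu
    rw [refl_comm_sim hμ hQg hu hgu] at hP
    have hval : ∀ x, (refl hu * refl hgu) x = x - (polar Q x u / Q u) • u - (polar Q x (g u) / Q (g u)) • g u := fun x => by
      show (rO hu).1 ((rO hgu).1 x) = _
      rw [rO_apply, rO_apply, sub_eq_add_neg x, polar_add_left, ← neg_smul, polar_smul_left, polar_comm Q (g u) u, horth]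
      simp only [smul_zero, add_zero]
      module
    obtain ⟨c, hcc⟩ := hsq _ hP ⟨1, fun x => by
      rw [one_smul, hval x, hval]
      simp only [sub_eq_add_neg, ← neg_smul, polar_add_left, polar_smul_left, smul_eq_mul, polar_self',
        polar_comm Q (g u) u, horth]
      match_scalars <;> field_simp <;> ring⟩
    have h1 := hcc u
    rw [hval, horth, polar_self', zero_div, zero_smul, sub_zero, mul_div_cancel_right₀ _ hu] at h1
    have hu0 : u ≠ 0 := fun h => hu (by rw [h, map_zero])
    have hc1 : c = -1 := smul_left_injective F hu0 (show c • u = (-1 : F) • u by rw [← h1]; module)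
    obtain ⟨w, hw⟩ : ∃ w, w ∈ LinearMap.ker (((polarBilin Q).flip u).prod ((polarBilin Q).flip (g u))) ∧ w ≠ 0 := by
      refine Submodule.exists_mem_ne_zero_of_ne_bot fun h0 => ?_
      have h3 := (((polarBilin Q).flip u).prod ((polarBilin Q).flip (g u))).finrank_range_add_finrank_ker
      have h4 := Submodule.finrank_le (LinearMap.range (((polarBilin Q).flip u).prod ((polarBilin Q).flip (g u))))
      rw [Module.finrank_prod, Module.finrank_self] at h4
      rw [h0, finrank_bot] at h3
      omega
    simp only [LinearMap.mem_ker, LinearMap.prod_apply, LinearMap.flip_apply, polarBilin_apply_apply,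
      Function.prod_apply, Prod.mk_eq_zero] at hw
    have h5 := hcc w
    rw [hval, hw.1.1, hw.1.2, zero_div, zero_div, zero_smul, zero_smul, sub_zero, sub_zero, hc1] at h5
    exact hw.2 ((smul_eq_zero.1 (show (2 : F) • w = 0 by linear_combination (norm := module) h5)).resolve_left h2)
  intro g hg
  by_contra hns
  push Not at hns
  obtain ⟨u, hu, hgu⟩ : ∃ u, Q u ≠ 0 ∧ ∀ c : F, g u ≠ c • u := by
    by_contra hall
    push Not at hall
    obtain ⟨c, hc'⟩ := scalar_of_aniso hQ h2 hn g.toLinearMap hall
    obtain ⟨x, hx⟩ := hns c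
    exact hx (hc' x)
  obtain ⟨μ, hμ, hQg⟩ := hsim g hg
  have hgu' : Q (g u) ≠ 0 := by rw [hQg]; exact mul_ne_zero hμ hu
  have hP := hc g hg u hu
  rw [refl_comm_sim hμ hQg hu hgu'] at hP
  obtain ⟨z, hz, hz0⟩ := exists_orth_rotation hQ h2 hn hu hgu' hgu
  exact inv _ hP z hz hz0

end Cfsg.Agent.LocalBalance
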