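import Cfsg.Agent.AutPSp.Basic
import Cfsg.Agent.Core.Basics

/-!
Normal subgroups of symplectic groups over the field of two elements have index at most two.
-/

set_option autoImplicit false

namespace Cfsg.Agent.LocalBalance

open Matrix AutPSp

variable {m : ℕ} {F : Type*} [Field F] [Finite F]

theorem eq_one_of_card_two (h2 : Nat.card F = 2) {x : F} (hx : x ≠ 0) : x = 1 := by
  by_contra hne
  haveI := Fintype.ofFinite F
  classical
  have h3 : ({0, 1, x} : Finset F).card = 3 := by simp [Ne.symm hx, Ne.symm hne]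
  have h := Finset.card_le_univ ({0, 1, x} : Finset F)
  rw [h3, ← Nat.card_eq_fintype_card, h2] at h
  omega

/-- The normal closure of a pair of transvections. -/
def Rel (N : Subgroup (Spm m F)) (a b : Vm m F) : Prop := tvS a 1 * tvS b 1 ∈ N

theorem normal_index_le_two (h2 : Nat.card F = 2) (hm : 1 ≤ m) {N : Subgroup (Spm m F)} [N.Normal] (hN : N ≠ ⊥) :
    Nat.card (Spm m F) ∣ 2 * Nat.card N := by
  classical
  have h11 : (1 : F) + 1 = 0 := by
    by_contra hne
    have := eq_one_of_card_two h2 hne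
    simp at this
  have hsq : ∀ v : Vm m F, tvS v 1 * tvS v (1 : F) = 1 := fun v => by rw [tvS_mul, h11, tvS_zero]
  have hinv : ∀ v : Vm m F, (tvS v (1 : F))⁻¹ = tvS v 1 := fun v => inv_eq_of_mul_eq_one_right (hsq v)
  have hsymm : ∀ {a b}, Rel N a b → Rel N b a := fun {a b} h => by
    have := N.inv_mem h
    rwa [_root_.mul_inv_rev, hinv, hinv] at this
  have htrans : ∀ {a b c}, Rel N a b → Rel N b c → Rel N a c := fun {a b c} h h' => by
    have := N.mul_mem h h'
    rwa [mul_assoc, ← mul_assoc (tvS b 1), hsq, one_mul] at this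
  have hconj : ∀ {a b} (s : Spm m F), Rel N a b → Rel N (mat s *ᵥ a) (mat s *ᵥ b) := fun {a b} s h => by
    have := Subgroup.Normal.conj_mem inferInstance _ h s
    rwa [show s * (tvS a 1 * tvS b 1) * s⁻¹ = s * tvS a 1 * s⁻¹ * (s * tvS b 1 * s⁻¹) by group, conj_tvS,
      conj_tvS] at this
  have hB1 : ∀ {a b : Vm m F}, fB m F a b ≠ 0 → fB m F a b = 1 := fun h => eq_one_of_card_two h2 h
  have hB01 : ∀ a b : Vm m F, fB m F a b = 0 ∨ fB m F a b = 1 := fun a b => by
    by_cases h : fB m F a b = 0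
    · exact Or.inl h
    · exact Or.inr (hB1 h)
  have hBc : ∀ a b : Vm m F, fB m F a b = fB m F b a := fun a b => by
    rw [fB_neg b a]
    linear_combination (-(fB m F b a)) * h11
  -- move along a related pair
  have rule : ∀ {v a b u}, Rel N v a → Rel N v b → fB m F u a = 0 → fB m F u b = 1 → Rel N v (b + u) := by
    intro v a b u hva hvb hua hub
    have h := hconj (tvS u 1) (htrans (hsymm hva) hvb)
    rw [tvS_mulVec, tvS_mulVec, hBc a, hBc b, hua, hub, mul_zero, zero_smul, add_zero, mul_one, one_smul] at h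
    exact htrans hva h
  obtain ⟨x, hx, hx1⟩ := (Subgroup.ne_bot_iff_exists_ne_one).1 hN |>.elim fun y hy => (⟨y.1, y.2, fun h => hy (Subtype.ext h)⟩ : ∃ x, x ∈ N ∧ x ≠ 1)
  obtain ⟨v, hv⟩ : ∃ v, mat x *ᵥ v ≠ v := by
    by_contra hc
    push Not at hc
    exact hx1 (sp_ext_mulVec fun v => (hc v).trans (Matrix.one_mulVec v).symm)
  set w := mat x *ᵥ v with hw
  have hv0 : v ≠ 0 := fun h => hv (by rw [hw, h, Matrix.mulVec_zero])
  have hw0 : w ≠ 0 := mat_mulVec_ne_zero x hv0
  have hvv : Rel N v v := by show _ ∈ N; rw [hsq]; exact N.one_mem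
  have hvw : Rel N v w := hsymm <| by
    show tvS w 1 * tvS v 1 ∈ N
    have h1 := N.mul_mem hx (Subgroup.Normal.conj_mem inferInstance _ (N.inv_mem hx) (tvS v 1))
    rwa [hinv, show x * (tvS v 1 * x⁻¹ * tvS v 1) = x * tvS v 1 * x⁻¹ * tvS v 1 by group, conj_tvS] at h1
  have exists_sep : ∀ {a y : Vm m F}, a ≠ 0 → y ≠ 0 → ∃ z, fB m F z a = 1 ∧ fB m F z y = 1 := by
    intro a y ha hy
    obtain ⟨z1, hz1⟩ := exists_fB_one ha
    obtain ⟨z2, hz2⟩ := exists_fB_one hy
    rw [hBc] at hz1 hz2
    rcases hB01 z1 y with h1 | h1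
    · rcases hB01 z2 a with h3 | h3
      · exact ⟨z1 + z2, by rw [map_add, LinearMap.add_apply, hz1, h3, add_zero],
          by rw [map_add, LinearMap.add_apply, hz2, h1, zero_add]⟩
      · exact ⟨z2, h3, hz2⟩
    · exact ⟨z1, hz1, h1⟩
  obtain ⟨a, b, hva, hvb, hab⟩ : ∃ a b, Rel N v a ∧ Rel N v b ∧ fB m F a b = 1 := by
    rcases hB01 v w with h0 | h1
    · obtain ⟨u, hu1, hu2⟩ : ∃ u, fB m F u v = 0 ∧ fB m F u w = 1 := by
        have hvw0 : v + w ≠ 0 := fun h => hv (by
          calc w = v + w + v := by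
                funext i; simp only [Pi.add_apply]; linear_combination (-(v i)) * h11
            _ = v := by rw [h, zero_add])
        obtain ⟨z, hz1, hz2⟩ := exists_sep hw0 hvw0
        refine ⟨z, ?_, hz1⟩
        rw [map_add] at hz2
        linear_combination hz2 - hz1
      refine ⟨w, w + u, hvw, rule hvv hvw hu1 hu2, ?_⟩
      rw [map_add, fB_self, zero_add, hBc, hu2]
    · exact ⟨v, w, hvv, hvw, h1⟩
  have cover : ∀ {a b y}, Rel N v a → Rel N v b → fB m F a b = 1 →
      (fB m F y a = 1 ∨ fB m F y b = 1) → Rel N v y := by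
    intro a b y ha hb hab hy
    have one : ∀ {a b}, Rel N v a → Rel N v b → fB m F a b = 1 → fB m F y a = 1 → fB m F y b = 1 → Rel N v y := by
      intro a b ha hb hab h1 h2'
      have e : y = b + (y + b) := by
        funext i; simp only [Pi.add_apply]; linear_combination (-(b i)) * h11
      rw [e]
      refine rule ha hb ?_ ?_
      · rw [map_add, LinearMap.add_apply, h1, hBc b, hab]; exact h11
      · rw [map_add, LinearMap.add_apply, h2', fB_self, add_zero]
    have hab' : Rel N v (a + b) := by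
      rw [add_comm]; exact rule ha hb (fB_self a) hab
    rcases hB01 y a with h1 | h1 <;> rcases hB01 y b with h2' | h2'
    · exfalso; rcases hy with h | h <;> simp_all
    · exact one hb hab' (by rw [map_add, fB_self, add_zero, hBc, hab]) h2' (by rw [map_add, h1, h2', zero_add])
    · exact one ha hab' (by rw [map_add, fB_self, zero_add, hab]) h1 (by rw [map_add, h1, h2', add_zero])
    · exact one ha hb hab h1 h2'
  have hall : ∀ y, y ≠ 0 → Rel N v y := by
    intro y hy
    rcases hB01 y a with h1 | h1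
    · have ha0 : a ≠ 0 := fun h => by simp [h] at hab
      obtain ⟨z, hz1, hz2⟩ := exists_sep ha0 hy
      have hz : Rel N v z := cover hva hvb hab (Or.inl hz1)
      exact cover hva hz (by rw [hBc]; exact hz1) (Or.inr (by rw [hBc]; exact hz2))
    · exact cover hva hvb hab (Or.inl h1)
  have htop : Subgroup.zpowers (tvS v (1 : F)) ⊔ N = ⊤ := eq_top_of_tvS _ fun u c => by
    by_cases hc : c = 0
    · rw [hc, tvS_zero]; exact one_mem _
    rw [eq_one_of_card_two h2 hc]
    by_cases hu : u = 0
    · have : tvS u (1 : F) = 1 := by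
        refine sp_ext_mulVec fun x => ?_
        rw [tvS_mulVec, hu, smul_zero, add_zero]
        exact (Matrix.one_mulVec x).symm
      rw [this]; exact one_mem _
    rw [show tvS u (1 : F) = tvS v 1 * (tvS v 1 * tvS u 1) by rw [← mul_assoc, hsq, one_mul]]
    exact mul_mem (Subgroup.mem_sup_left (Subgroup.mem_zpowers _)) (Subgroup.mem_sup_right (hall u hu))
  have h := Core.card_sup_dvd_mul (Subgroup.zpowers (tvS v (1 : F))) N
  rw [htop, Subgroup.card_top, Nat.card_zpowers] at h
  refine h.trans (Nat.mul_dvd_mul_right ?_ _)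
  exact orderOf_dvd_of_pow_eq_one (by rw [pow_two]; exact hsq v)

end Cfsg.Agent.LocalBalance
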