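import Cfsg.Agent.AutPSp.Field
import Cfsg.Agent.Classical.SympGroup
import Cfsg.Agent.LocalBalance.Core
import Cfsg.Agent.LocalBalance.SympTwo

/-!
Local balance for automorphisms of prime order of PSp_2m outside the inner-diagonal group.
-/

set_option autoImplicit false

namespace Cfsg.Agent.LocalBalance

open Matrix AutPSp

variable {m : ℕ} {F : Type*} [Field F]

theorem conj_map_eq (y : MulAut (Cfsg.PSp m F)) (k : Cfsg.PSp m F) :
    y * MulAut.conj k = MulAut.conj (y k) * y := MulEquiv.ext fun t => by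
  simp [MulAut.conj_apply, MulAut.mul_apply]

variable [Fintype F] (r : ℕ) [Fact r.Prime] [CharP F r]
include r

theorem exists_conj_field_psp (hm : 2 ≤ m) {p : ℕ} (hp : p.Prime) (hpr : p ≠ r) {x : MulAut (Cfsg.PSp m F)}
    (hord : orderOf x = p) (hnot : ¬ Cfsg.IsInnerDiagonalAutPSp x) :
    ∃ (h : MulAut (Cfsg.PSp m F)) (σ : F ≃+* F), h ∈ Cfsg.inndiagPSp m F ∧ orderOf σ = p ∧ x = h * fieldA σ * h⁻¹ := by
  obtain ⟨g, σ, rfl⟩ : ∃ (g : Cfsg.GSp m F) (σ : F ≃+* F), x = conjA g * fieldA σ := by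
    by_cases hex : m = 2 ∧ r = 2
    · obtain ⟨rfl, rfl⟩ := hex
      haveI := inndiag_normal (F := F) (m := 2) 2 le_rfl
      let R := ((QuotientGroup.mk' (Cfsg.inndiagPSp 2 F)).comp (fieldA (m := 2) (F := F))).range
      obtain ⟨g, σ, h | h⟩ := Graph.exists_decomp_four x
      · exact ⟨g, σ, h⟩
      have hmk := congrArg (QuotientGroup.mk' (Cfsg.inndiagPSp 2 F)) h
      rw [map_mul, map_mul, show QuotientGroup.mk' (Cfsg.inndiagPSp 2 F) (conjA g) = 1 from
        (QuotientGroup.eq_one_iff _).2 (conjA_mem g), one_mul] at hmk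
      set π := QuotientGroup.mk' (Cfsg.inndiagPSp 2 F)
      have hsq : π x * π x ∈ R := by
        have e : π x = π ((Graph.phiA : MulAut (Cfsg.PSp 2 F))⁻¹ * fieldA σ) := by
          rw [map_mul, map_inv, ← hmk, inv_mul_cancel_left]
        have hc : Commute (Graph.phiA : MulAut (Cfsg.PSp 2 F)) (fieldA σ) := Graph.phiA_field σ
        refine ⟨(Graph.frobE F)⁻¹ * (σ * σ), ?_⟩
        rw [MonoidHom.comp_apply, e, ← map_mul π]
        congr 1
        rw [map_mul fieldA, map_inv, map_mul fieldA, ← Graph.phiA_sq, _root_.mul_inv_rev,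
          show Graph.phiA⁻¹ * fieldA σ * (Graph.phiA⁻¹ * fieldA σ) =
            Graph.phiA⁻¹ * (fieldA σ * Graph.phiA⁻¹) * fieldA σ by group, ← (hc.inv_left).eq]
        group
      have hxp : π x ^ p = 1 := by rw [← map_pow, ← hord, pow_orderOf_eq_one, map_one]
      obtain ⟨k, hk⟩ := hp.odd_of_ne_two hpr
      have hx : π x ∈ R := by
        have : π x = (π x * π x) ^ (k + 1) := by
          rw [← pow_two, ← pow_mul, show 2 * (k + 1) = p + 1 by omega, pow_succ, hxp, one_mul]
        rw [this]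
        exact pow_mem hsq _
      obtain ⟨τ, hτ⟩ := hx
      have hmem : x * (fieldA τ)⁻¹ ∈ Cfsg.inndiagPSp 2 F := by
        rw [← QuotientGroup.eq_one_iff (N := Cfsg.inndiagPSp 2 F)]
        show π (x * (fieldA τ)⁻¹) = 1
        rw [map_mul, map_inv, ← hτ]
        exact mul_inv_cancel _
      rw [inndiagPSp_eq] at hmem
      obtain ⟨g', hg'⟩ := hmem
      exact ⟨g', τ, by rw [hg', inv_mul_cancel_right]⟩
    · exact exists_decomp r hm (fun h1 h2 => hex ⟨h1, h2⟩) x
  have hpow : (conjA g * fieldA σ) ^ p = 1 := hord ▸ pow_orderOf_eq_one _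
  have hσp : σ ^ p = 1 := by
    have h := hpow
    rw [conjA_field_pow] at h
    exact (eq_one_of_conj_field r (by omega) h).1
  have hσ1 : σ ≠ 1 := fun h => hnot (by
    rw [isInnerDiagonal_iff]
    exact ⟨g, by rw [h, map_one, mul_one]⟩)
  haveI := Fact.mk hp
  have hσ : orderOf σ = p := orderOf_eq_prime hσp hσ1
  obtain ⟨h, hh, he⟩ := coboundary_field r (by omega) hσ g hpow
  exact ⟨h, σ, hh, hσ, he⟩

/-- The witness for a standard field automorphism. -/
theorem witness_field_psp (hm : 2 ≤ m) {p : ℕ} (hp : p.Prime) (hpr : p ≠ r) {σ : F ≃+* F}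
    (hσ : orderOf σ = p) (hdvd : p ∣ Nat.card ↥(innR (Cfsg.PSp m F) ⊓ Subgroup.centralizer {fieldA σ})) :
    Witness p (fieldA σ : MulAut (Cfsg.PSp m F)) := by
  classical
  haveI := Fact.mk hp
  haveI := finite_mulAut (K := Cfsg.PSp m F)
  have hm1 : 1 ≤ m := by omega
  let K : Subfield F := (σ : F →+* F).eqLocusField (RingHom.id F)
  let i : K →+* F := K.subtype
  have hi : ∀ a : F, σ a = a ↔ a ∈ i.range := fun a => ⟨fun h => ⟨⟨a, h⟩, rfl⟩, by rintro ⟨b, rfl⟩; exact b.2⟩
  haveI : CharP K r := (RingHom.charP_iff i i.injective r).2 inferInstance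
  let ψ : Spm m K →* MulAut (Cfsg.PSp m F) := conjA.comp ((mapGSp i hm1).comp spToGSp)
  have hmult : ∀ s : Spm m K, spToGSp s ∈ (mult (F := K) hm1).ker := fun s => by
    rw [← range_spToGSp]; exact ⟨s, rfl⟩
  have hψI : ∀ s, ψ s ∈ innR (Cfsg.PSp m F) := fun s => by
    show conjA (mapGSp i hm1 (spToGSp s)) ∈ Cfsg.Inn (Cfsg.PSp m F)
    rw [inn_eq]
    refine ⟨_, ?_, rfl⟩
    show mapGSp i hm1 (spToGSp s) ∈ (spToGSp (m := m) (F := F)).range
    rw [range_spToGSp hm1, MonoidHom.mem_ker, mult_mapGSp, MonoidHom.mem_ker.1 (hmult s), map_one]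
  have hcent := centralizer_field i r hm1 hσ hi
  have hY : ∀ y, y ∈ innR (Cfsg.PSp m F) → y * fieldA σ = fieldA σ * y → ∃ g : Cfsg.GSp m K, y = conjA (mapGSp i hm1 g) := by
    intro y hy hyc
    have h1 : y ∈ Cfsg.inndiagPSp m F ⊓ Subgroup.centralizer {fieldA σ} :=
      Subgroup.mem_inf.2 ⟨inn_le_inndiag hy, Subgroup.mem_centralizer_singleton_iff.2 hyc⟩
    rw [← hcent] at h1
    obtain ⟨_, ⟨g, rfl⟩, rfl⟩ := h1
    exact ⟨g, rfl⟩
  refine ⟨ψ.range, ?_, ?_, ?_, ?_, ?_⟩
  · rintro _ ⟨s, rfl⟩; exact hψI s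
  · rintro _ ⟨s, rfl⟩
    have h1 : ψ s ∈ (mapGSp i hm1).range.map conjA := ⟨_, ⟨spToGSp s, rfl⟩, rfl⟩
    rw [hcent] at h1
    exact (Subgroup.mem_inf.1 h1).2
  · rintro y hy hyc _ ⟨s, rfl⟩
    obtain ⟨g, rfl⟩ := hY y hy hyc
    obtain ⟨t, ht⟩ : g * spToGSp s * g⁻¹ ∈ (spToGSp (m := m) (F := K)).range := by
      rw [range_spToGSp hm1]
      exact (MonoidHom.normal_ker _).conj_mem _ (hmult s) g
    exact ⟨t, by
      show conjA (mapGSp i hm1 (spToGSp t)) = _
      rw [ht]; simp only [map_mul, map_inv]; rfl⟩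
  · intro y hyc hyX
    have hfixk : ∀ s : Spm m K, ∀ k : Cfsg.PSp m F, ψ s = MulAut.conj k → y k = k := fun s k hk => by
      have h1 := hyX _ ⟨s, rfl⟩
      rw [hk, conj_map_eq, mul_left_inj] at h1
      exact conj_injective r hm1 h1
    have hfixt : ∀ (v : Vm m K) (c : K), y (mkS (tvS (fun j => i (v j)) (i c))) = mkS (tvS (fun j => i (v j)) (i c)) := by
      intro v c
      refine hfixk (tvS v c) _ ?_
      rw [← conjA_spToGSp]
      show conjA (mapGSp i hm1 (spToGSp (tvS v c))) = conjA (spToGSp (tvS (fun j => i (v j)) (i c)))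
      congr 1
      refine Subtype.ext (Units.ext ?_)
      show (mat (tvS v c)).map i = mat (tvS (fun j => i (v j)) (i c))
      refine Matrix.ext_of_mulVec_single fun j => ?_
      have e : (Pi.single j 1 : Vm m F) = fun k => i ((Pi.single j 1 : Vm m K) k) := funext fun k => by
        by_cases hk : k = j <;> simp [Pi.single_apply, hk]
      rw [e, tvS_mulVec, show ((mat (tvS v c)).map i) *ᵥ (fun k => i ((Pi.single j 1 : Vm m K) k)) =
        fun k => i ((mat (tvS v c) *ᵥ Pi.single j 1) k) from funext fun k => (RingHom.map_mulVec i _ _ k).symm,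
        tvS_mulVec, fB_map₀]
      funext k
      simp only [Pi.add_apply, Pi.smul_apply, smul_eq_mul, map_add, map_mul]
    obtain ⟨g, τ, rfl⟩ : ∃ (g : Cfsg.GSp m F) (τ : F ≃+* F), y = conjA g * fieldA τ := by
      by_cases hex : m = 2 ∧ r = 2
      · obtain ⟨rfl, rfl⟩ := hex
        obtain ⟨g, τ, h | h⟩ := Graph.exists_decomp_four y
        · exact ⟨g, τ, h⟩
        exfalso
        obtain ⟨e', c, -, he⟩ := semilinear_tpres g τ (Pi.single (Sum.inl 0) 1) 1 Graph.isPair_base.1
        have e0 : (Pi.single (Sum.inl 0) 1 : Vm 2 F) = fun j => i ((Pi.single (Sum.inl 0) 1 : Vm 2 K) j) :=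
          funext fun k => by by_cases hk : k = Sum.inl 0 <;> simp [Pi.single_apply, hk]
        have hy0 := hfixt (Pi.single (Sum.inl 0) 1) 1
        rw [← e0, map_one] at hy0
        rw [← h, MulAut.mul_apply, hy0, Graph.phiA_mkS, Graph.phiHom_tvS_base, one_smul] at he
        exact qtS_ne_tvS Graph.isPair_base c (eq_of_mkS_eq 2 (by norm_num)
          (flagFix_pow 2 Graph.isPair_base.1 (qtS_mem_flagFix Graph.isPair_base.2.1 0)) (tvS_pow_p 2 e' c) he)
      · exact exists_decomp r hm (fun h1 h2 => hex ⟨h1, h2⟩) y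
    obtain ⟨ν, hν⟩ := mem_GSp_iff.1 g.2
    have hline : ∀ v : Vm m K, v ≠ 0 → ∃ a : F, gmat g.1 *ᵥ (fun j => τ (i (v j))) = a • fun j => i (v j) := by
      intro v hv
      have hv' : (fun j => i (v j)) ≠ (0 : Vm m F) := fun h => hv (funext fun j => i.injective (by
        rw [show i (v j) = 0 from congrFun h j, Pi.zero_apply, map_zero]))
      have h1 := hfixt v 1
      rw [MulAut.mul_apply, fieldA_mkS, conjA_mkS, fieldSp_conjSp_tvS τ hν, map_one] at h1
      exact tvS_inj hv' one_ne_zero (eq_of_mkS_eq r hm1 (tvS_pow_p r _ _) (tvS_pow_p r _ _) h1).symm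
    have hsingle : ∀ j, ∃ d : F, gmat g.1 *ᵥ Pi.single j 1 = d • Pi.single j 1 := fun j => by
      obtain ⟨a, ha⟩ := hline (Pi.single j 1) (Pi.single_ne_zero_iff.2 one_ne_zero)
      refine ⟨a, ?_⟩
      convert ha using 2 <;> · funext k; by_cases hk : k = j <;> simp [Pi.single_apply, hk]
    choose d hd using hsingle
    have hdd : ∀ j l, d j = d l := fun j l => by
      by_cases hjl : j = l
      · rw [hjl]
      obtain ⟨a, ha⟩ := hline (Pi.single j 1 + Pi.single l 1) (fun h => one_ne_zero (α := K) (by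
        have := congrFun h j; simpa [Pi.single_apply, hjl] using this))
      have e : (fun k => τ (i ((Pi.single j 1 + Pi.single l 1 : Vm m K) k))) = Pi.single j 1 + Pi.single l 1 :=
        funext fun k => by by_cases hkj : k = j <;> by_cases hkl : k = l <;> simp [Pi.single_apply, hkj, hkl]
      have e' : (fun k => i ((Pi.single j 1 + Pi.single l 1 : Vm m K) k)) = Pi.single j 1 + Pi.single l 1 :=
        funext fun k => by by_cases hkj : k = j <;> by_cases hkl : k = l <;> simp [Pi.single_apply, hkj, hkl]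
      rw [e, e', Matrix.mulVec_add, hd, hd] at ha
      have h1 := congrFun ha j
      have h2 := congrFun ha l
      simp [Pi.single_apply, hjl, Ne.symm hjl] at h1 h2
      rw [h1, h2]
    set o : Fin m ⊕ Fin m := Sum.inl ⟨0, hm1⟩
    have hg : gmat g.1 = d o • 1 := Matrix.ext_of_mulVec_single fun j => by
      rw [hd, hdd j o, Matrix.smul_mulVec, Matrix.one_mulVec]
    have hcg := conjA_of_scalar (g := g) (mem_scalars_of_smul hg hm1)
    rw [hcg, one_mul] at hfixt ⊢
    have hτ : ∀ a, σ a = a → τ a = a := fun a ha => by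
      obtain ⟨c, rfl⟩ := (hi a).1 ha
      have h1 := hfixt (Pi.single o 1) c
      rw [fieldA_mkS, fieldSp_tvS] at h1
      have e : (fun k => τ (i ((Pi.single o 1 : Vm m K) k))) = fun k => i ((Pi.single o 1 : Vm m K) k) :=
        funext fun k => by by_cases hk : k = o <;> simp [Pi.single_apply, hk]
      rw [e] at h1
      have h2 := eq_of_mkS_eq r hm1 (tvS_pow_p r _ _) (tvS_pow_p r _ _) h1
      set u : Vm m F := fun k => i ((Pi.single o 1 : Vm m K) k)
      have hu : u ≠ 0 := fun h => by have := congrFun h o; simp [u] at this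
      have h3 : tvS u (τ (i c) + -(i c)) = 1 := by rw [← tvS_mul, h2, tvS_mul, add_neg_cancel, tvS_zero]
      exact eq_of_sub_eq_zero (by rw [sub_eq_add_neg]; exact (tvS_eq_one_iff hu).1 h3)
    obtain ⟨k, hk⟩ := mem_zpowers_of_fix hτ
    exact ⟨k, by rw [← hk, map_zpow]⟩
  · intro M hM hMn hMc
    have hkerψ : ∀ s, ψ s = 1 ↔ s ∈ Subgroup.center (Spm m K) := fun s => by
      rw [show ψ s = conjA (mapGSp i hm1 (spToGSp s)) from rfl, conjA_eq_one_iff r hm1]
      have e := congrArg (fun S => spToGSp s ∈ S) (ker_mapGSp (m := m) i hm1)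
      simp only [Subgroup.mem_comap, Subgroup.mem_subgroupOf, eq_iff_iff] at e
      rw [e]
      constructor
      · intro hs
        obtain ⟨c, hc⟩ := (Geo.mem_scalars_iff _).1 hs
        exact mem_center_of_scalar (a := (c : K)) fun v => by
          rw [show mat s = (c : K) • 1 from hc, Matrix.smul_mulVec, Matrix.one_mulVec]
      · intro hs
        obtain ⟨c, hc⟩ := center_scalar hs
        exact mem_scalars_of_smul (a := c) (Matrix.ext_of_mulVec_single fun j => by
          show mat s *ᵥ _ = _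
          rw [hc, Matrix.smul_mulVec, Matrix.one_mulVec]) hm1
    have hker : ψ.ker = Subgroup.center (Spm m K) := Subgroup.ext fun s => by rw [MonoidHom.mem_ker, hkerψ]
    have hpX : p ∣ Nat.card ψ.range := by
      by_cases hp2 : p = 2
      · subst hp2
        let s : Spm m K := ⟨Matrix.J (Fin m) K, SymplecticGroup.J_mem (Fin m) K⟩
        have hs1 : ψ s ≠ 1 := fun h => by
          obtain ⟨c, hc⟩ := center_scalar ((hkerψ s).1 h)
          have := congrFun (hc (Pi.single (Sum.inl ⟨0, hm1⟩) 1)) (Sum.inr ⟨0, hm1⟩)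
          have hJ : Matrix.J (Fin m) K (Sum.inr ⟨0, hm1⟩) (Sum.inl ⟨0, hm1⟩) = 1 := by simp [Matrix.J]
          rw [Matrix.mulVec_single_one] at this
          change Matrix.J (Fin m) K (Sum.inr ⟨0, hm1⟩) (Sum.inl ⟨0, hm1⟩) = _ at this
          rw [hJ] at this
          simp at this
        have hs2 : ψ s * ψ s = 1 := by
          rw [← map_mul, hkerψ]
          refine mem_center_of_scalar (a := (-1 : K)) fun v => ?_
          show (Matrix.J (Fin m) K * Matrix.J (Fin m) K) *ᵥ v = _
          rw [Matrix.J_squared, Matrix.neg_mulVec, Matrix.one_mulVec, neg_smul, one_smul]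
        have hmem : ψ s ∈ ψ.range := MonoidHom.mem_range.2 ⟨s, rfl⟩
        have : orderOf (⟨ψ s, hmem⟩ : ψ.range) = 2 := by
          rw [Subgroup.orderOf_mk]
          exact orderOf_eq_prime (by rw [pow_two, hs2]) hs1
        rw [← this]
        exact orderOf_dvd_natCard _
      · obtain ⟨⟨y, hy⟩, hyp⟩ := exists_prime_orderOf_dvd_card' p hdvd
        rw [Subgroup.orderOf_mk] at hyp
        obtain ⟨hyI, hyc⟩ := Subgroup.mem_inf.1 hy
        obtain ⟨g, hg⟩ := hY y hyI (Subgroup.mem_centralizer_singleton_iff.1 hyc)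
        set ν := mult (F := K) hm1 g
        have hmem : g * g * scalarGSp ν⁻¹ ∈ (spToGSp (m := m) (F := K)).range := by
          rw [range_spToGSp hm1, MonoidHom.mem_ker, map_mul, map_mul, mult_scalarGSp, pow_two, mul_mul_mul_comm,
            mul_inv_cancel, mul_one]
        obtain ⟨t, ht⟩ := hmem
        have hy2 : y * y ∈ ψ.range := by
          refine ⟨t, ?_⟩
          show conjA (mapGSp i hm1 (spToGSp t)) = _
          rw [ht, hg, map_mul, map_mul, map_mul, map_mul, scalarGSp_map]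
          rw [conjA_of_scalar (g := scalarGSp _) ⟨_, rfl⟩, mul_one]
        obtain ⟨k, hk⟩ := hp.odd_of_ne_two hp2
        have hyR : y ∈ ψ.range := by
          have : y = (y * y) ^ (k + 1) := by
            rw [← pow_two, ← pow_mul, show 2 * (k + 1) = p + 1 by omega, pow_succ, ← hyp, pow_orderOf_eq_one, one_mul]
          rw [this]
          exact pow_mem hy2 _
        rw [← hyp, ← Subgroup.orderOf_mk y hyR]
        exact orderOf_dvd_natCard _
    by_cases hsmall : m = 2 ∧ Nat.card K = 2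
    · obtain ⟨rfl, hK2⟩ := hsmall
      have hinj : Function.Injective ψ := (injective_iff_map_eq_one _).2 fun s hs => by
        obtain ⟨c, hc⟩ := center_scalar ((hkerψ s).1 hs)
        have hc0 : c ≠ 0 := fun h0 => mat_mulVec_ne_zero s (v := Pi.single (Sum.inl 0) 1)
          (Pi.single_ne_zero_iff.2 one_ne_zero) (by rw [hc, h0, zero_smul])
        exact sp_ext_mulVec fun v => by
          rw [hc, eq_one_of_card_two hK2 hc0, one_smul]
          exact (Matrix.one_mulVec v).symm
      have hr2 : r = 2 := by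
        have h1 : (r : K) = 0 := CharP.cast_eq_zero K r
        haveI := Fintype.ofFinite K
        obtain ⟨n, hr, hc⟩ := FiniteField.card K r
        rw [← Nat.card_eq_fintype_card, hK2] at hc
        exact ((Nat.prime_dvd_prime_iff_eq hr Nat.prime_two).1 (hc ▸ dvd_pow_self r n.ne_zero))
      haveI : (M.comap ψ).Normal := ⟨fun w hw s => by
        show ψ (s * w * s⁻¹) ∈ M
        rw [map_mul, map_mul, map_inv]
        exact hMn _ ⟨s, rfl⟩ _ hw⟩
      by_contra hne
      have hne' : M.comap ψ ≠ ⊥ := fun h => hne ((Subgroup.eq_bot_iff_forall M).2 fun w hw => by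
        obtain ⟨s, rfl⟩ := hM hw
        have : s ∈ M.comap ψ := hw
        rw [h, Subgroup.mem_bot] at this
        rw [this, map_one])
      have h1 := normal_index_le_two hK2 (by norm_num) hne'
      rw [show Nat.card (Spm 2 K) = Nat.card ψ.range from Nat.card_congr (MonoidHom.ofInjective hinj).toEquiv] at h1
      rcases hp.dvd_mul.1 (hpX.trans h1) with h2 | h2
      · exact hpr (by rw [hr2]; exact (Nat.prime_dvd_prime_iff_eq hp Nat.prime_two).1 h2)
      · exact hp.coprime_iff_not_dvd.1 hMc.symm (h2.trans (Subgroup.card_comap_dvd_of_injective M ψ hinj))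
    · haveI := Fintype.ofFinite K
      haveI : IsSimpleGroup (Cfsg.PSp m K) := Classical.isSimpleGroup_psp hm fun h2 => by
        have h1 : 1 < Nat.card K := Finite.one_lt_card
        have h3 : Nat.card K ≠ 2 := fun h => hsmall ⟨h2, h⟩
        rw [← Nat.card_eq_fintype_card]
        omega
      let ψb : Cfsg.PSp m K →* MulAut (Cfsg.PSp m F) := QuotientGroup.lift _ ψ (le_of_eq hker.symm)
      have hψb : Function.Injective ψb := (injective_iff_map_eq_one _).2 fun z hz => by
        obtain ⟨s, rfl⟩ := QuotientGroup.mk_surjective z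
        exact (QuotientGroup.eq_one_iff s).2 ((hkerψ s).1 hz)
      have hr : ψb.range = ψ.range := by
        ext z
        exact ⟨fun ⟨a, ha⟩ => by obtain ⟨s, rfl⟩ := QuotientGroup.mk_surjective a; exact ⟨s, ha⟩,
          fun ⟨s, hs⟩ => ⟨QuotientGroup.mk s, hs⟩⟩
      rw [← hr] at hM hMn hpX
      exact bot_of_simple_range hp ψb hψb ((Nat.card_congr (MonoidHom.ofInjective hψb).toEquiv).symm ▸ hpX) hM hMn hMc

end Cfsg.Agent.LocalBalance

namespace Cfsg.Agent.LocalBalance

open AutPSp

theorem psp_conj_injective {m : ℕ} {F : Type*} [Field F] [Finite F] (r : ℕ) [Fact r.Prime] [CharP F r] (hm : 1 ≤ m)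
    [IsSimpleGroup (Cfsg.PSp m F)] :
    Function.Injective (MulAut.conj : Cfsg.PSp m F →* MulAut (Cfsg.PSp m F)) ∧ ¬ Group.IsNilpotent (Cfsg.PSp m F) := by
  obtain ⟨w, hw⟩ := exists_fB_one (a0_ne_zero (F := F) hm)
  refine conj_injective_of_simple (a := mkS (tvS (a0 hm F) 1)) (b := mkS (tvS w 1)) fun h => ?_
  have hw0 : w ≠ 0 := fun h0 => by simp [h0] at hw
  have h1 := commute_of_mkS r hm (k := 1) (tvS_pow_p r (a0 hm F) 1) (b := tvS w (1 : F)) h
  rw [tvS_commute_iff (a0_ne_zero hm) hw0 one_ne_zero one_ne_zero, hw] at h1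
  exact one_ne_zero h1

end Cfsg.Agent.LocalBalance
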